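import Groth.Agent.HomFibreLib.Lift
import Groth.Agent.BCLib.Local
import Groth.Agent.CurveLib.SmulPow
import Groth.Agent.EulerIneqLib.Basic
import Groth.Prelude.Def_CurvBase
import Groth.Prelude.Def_PerfAux

/-!
# Cohomology of a family at a rational point and homomorphisms between locally free modules
-/

set_option autoImplicit false
set_option backward.isDefEq.respectTransparency false
set_option linter.style.haveILetI false

universe u

open CategoryTheory CategoryTheory.Limits AlgebraicGeometry
open Groth.Agent.StalkHomLib Groth.Agent.PullbackMod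

noncomputable section

namespace Groth.Agent.SepFamLib

variable {k : Type u} [Field k] {X : Scheme.{u}} [X.Over (Spec (CommRingCat.of k))]
  [IsProper (X ↘ Spec (CommRingCat.of k))]

/-- The fibre ranks of a module on a proper scheme over a field are its Betti numbers. -/
theorem fiberRank_field {N : X.Modules} [Coh.IsQCoh N] (q : ℕ) :
    CohIII.fiberRank (X ↘ Spec (CommRingCat.of k)) N q (IsLocalRing.closedPoint k) =
      Module.finrank k (Coh.HH X N q) := by
  let f := X ↘ Spec (CommRingCat.of k)
  let pt : Spec (CommRingCat.of k) := IsLocalRing.closedPoint k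
  letI : (f.fiber pt).Over (Spec (CommRingCat.of ((Spec (CommRingCat.of k)).residueField pt))) :=
    ⟨f.fiberToSpecResidueField pt⟩
  let φ : CommRingCat.of k ⟶ CommRingCat.of ((Spec (CommRingCat.of k)).residueField pt) :=
    Spec.preimage ((Spec (CommRingCat.of k)).fromSpecResidueField pt)
  have hc : IsPullback (f.fiberι pt) (FormalLib.str ((Spec (CommRingCat.of k)).residueField pt) (f.fiber pt))
      (FormalLib.str k X) (Spec.map φ) := by
    rw [Spec.map_preimage]
    exact IsPullback.of_hasPullback f ((Spec (CommRingCat.of k)).fromSpecResidueField pt)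
  haveI : IsSeparated (FormalLib.str k X) := inferInstanceAs (IsSeparated (X ↘ Spec (CommRingCat.of k)))
  haveI : QuasiCompact (FormalLib.str k X) := inferInstanceAs (QuasiCompact (X ↘ Spec (CommRingCat.of k)))
  exact BCLib.finrank_HH_fieldExt hc N q (Iso.refl _)

variable {P T : Scheme.{u}} {p : P ⟶ T} {j : X ⟶ P} {t : Spec (CommRingCat.of k) ⟶ T}

/-- Cohomology of the member of a family at a point with values in the field. -/
theorem finrank_HH_point [IsSeparated p] [QuasiCompact p]
    (h : IsPullback j (X ↘ Spec (CommRingCat.of k)) p t) (M : P.Modules) [Coh.IsQCoh M] (q : ℕ) :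
    Module.finrank k (Coh.HH X ((Scheme.Modules.pullback j).obj M) q) =
      CohIII.fiberRank p M q (t (IsLocalRing.closedPoint k)) := by
  haveI : Coh.IsQCoh ((Scheme.Modules.pullback j).obj M) := PullbackMod.isQCoh_pullback j M
  rw [← fiberRank_field, BCLib.fiberRank_baseChange h M q]

theorem euler_point [IsSeparated p] [QuasiCompact p]
    (h : IsPullback j (X ↘ Spec (CommRingCat.of k)) p t) (M : P.Modules) [Coh.IsQCoh M] :
    Curv2.euler k X ((Scheme.Modules.pullback j).obj M) = PerfAux.eulerChar p M (t (IsLocalRing.closedPoint k)) :=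
  finsum_congr fun q => congrArg (fun z : ℕ => (-1 : ℤ) ^ q * (z : ℤ)) (finrank_HH_point h M q)

omit [X.Over (Spec (CommRingCat.of k))] [IsProper (X ↘ Spec (CommRingCat.of k))] in
theorem stalkLin_zero' {F G : X.Modules} (z : X) : stalkLin (0 : F ⟶ G) z = 0 :=
  LinearMap.ext fun a => by
    obtain ⟨U, hz, v, rfl⟩ := TopCat.Presheaf.exists_germ_eq F.presheaf a
    rw [stalkLin_germ, LinearMap.zero_apply, Scheme.Modules.Hom.zero_app]
    exact map_zero _

/-- Homomorphisms out of a locally free module are the sections of the internal Hom. -/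
theorem exists_hom_ne_zero_iff {F G : X.Modules} (hF' : FlatMod.IsFinLocFree F)
    (hG' : FlatMod.IsFinLocFree G) :
    (∃ u : F ⟶ G, u ≠ 0) ↔ 1 ≤ Module.finrank k (Coh.HH X ((hF F).obj G) 0) := by
  haveI := EulerIneqLib.isNoetherian_proper (X := X) k
  haveI : Module.Finite k (Coh.HH X ((hF F).obj G) 0) :=
    ProperFin.allFin_of_isCoh (A := k) (X ↘ Spec (CommRingCat.of k)) _ (HomFibreLib.isCoh_hF_flf hF' hG') 0
  refine Iff.trans ?_ (Module.finrank_pos_iff (R := k)).symm
  constructor
  · rintro ⟨u, hu⟩
    obtain ⟨σ, hσ⟩ := HomFibreLib.exists_sec u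
    refine nontrivial_of_ne ((CurveLib.secOf _).symm σ) 0 fun h0 => hu ?_
    rw [AddEquiv.symm_apply_eq, map_zero] at h0
    refine hom_ext_stalk fun z => LinearMap.ext fun a => ?_
    rw [← hσ z a, h0, map_zero, map_zero, LinearMap.zero_apply, stalkLin_zero', LinearMap.zero_apply]
  · intro hn
    obtain ⟨c, hc⟩ := exists_ne (0 : Coh.HH X ((hF F).obj G) 0)
    refine ⟨HomFibreLib.homOfSec (CurveLib.secOf _ c), fun h0 => hc ((CurveLib.secOf _).injective ?_)⟩
    rw [map_zero]
    refine TopCat.Presheaf.section_ext (⟨((hF F).obj G).presheaf, ((hF F).obj G).isSheaf⟩ : TopCat.Sheaf Ab X) ⊤ _ _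
      fun z hz => ?_
    refine (LocFreeHomLib.theta_bijective_flf F hF' G z).1 (LinearMap.ext fun a => ?_)
    rw [← HomFibreLib.theta_homOfSec, h0, stalkLin_zero', map_zero, map_zero]

end Groth.Agent.SepFamLib
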