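import Groth.Agent.SepFamLib.Hom
import Groth.Agent.GenBCLib.Betti
import Groth.Agent.VBLib.Slope
import Groth.Agent.VBLib.Regular
import Groth.Agent.KVbLib.Rank
import Groth.Agent.PBundleLib.Split
import Groth.Agent.DCohMore.ProjPC
import Groth.Agent.CycLib.Chern.SubLine
import Groth.Prelude.Def_Curve

/-!
# Stable bundles are separated in families
-/

set_option autoImplicit false
set_option backward.isDefEq.respectTransparency false
set_option linter.style.haveILetI false

universe u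

open CategoryTheory CategoryTheory.Limits AlgebraicGeometry
open Groth.Agent.StalkHomLib

noncomputable section

namespace Groth.Agent.SepFamLib

variable {k : Type u} [Field k] {X T : Scheme.{u}} [X.Over (Spec (CommRingCat.of k))]
  [T.Over (Spec (CommRingCat.of k))]

theorem isPullback_point {t : Spec (CommRingCat.of k) ⟶ T} (ht : t ≫ (T ↘ Spec (CommRingCat.of k)) = 𝟙 _)
    {j : X ⟶ pullback (X ↘ Spec (CommRingCat.of k)) (T ↘ Spec (CommRingCat.of k))}
    (h1 : j ≫ pullback.fst _ _ = 𝟙 X) (h2 : j ≫ pullback.snd _ _ = (X ↘ Spec (CommRingCat.of k)) ≫ t) :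
    IsPullback j (X ↘ Spec (CommRingCat.of k)) (pullback.snd (X ↘ Spec (CommRingCat.of k)) (T ↘ Spec (CommRingCat.of k))) t :=
  IsPullback.of_right (by rw [h1, ht]; exact IsPullback.id_horiz _) h2 (IsPullback.of_hasPullback _ _)

omit [X.Over (Spec (CommRingCat.of k))] [T.Over (Spec (CommRingCat.of k))] in
theorem not_isZero_of_rank [Nonempty X] {r : ℕ} (hr : 0 < r) {M : X.Modules}
    (hM : FlatMod.IsFinLocFreeOfRank r M) : ¬ IsZero M := fun hz => by
  obtain ⟨x⟩ := ‹Nonempty X›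
  haveI : NeZero r := ⟨hr.ne'⟩
  obtain ⟨e⟩ := CurveLib.freeAt_of_isFinLocFreeOfRank hM x
  have h0 := (PullbackMod.eq_zero_iff_stalk _).1 (hz.eq_of_src (𝟙 M) 0) x
  have : Subsingleton (M.presheaf.stalk x) := subsingleton_of_forall_eq 0 fun z => by
    have := LinearMap.congr_fun h0 z
    rwa [PullbackMod.stalkLin_id] at this
  exact not_subsingleton (Fin r → X.presheaf.stalk x) (e.toEquiv.subsingleton_congr.1 this)

variable [IsAlgClosed k]

/-- Isomorphy away from a point gives a homomorphism at the point. -/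
theorem exists_hom_special [IsProper (X ↘ Spec (CommRingCat.of k))] [Smooth (X ↘ Spec (CommRingCat.of k))]
    [IsIntegral T] [LocallyOfFiniteType (T ↘ Spec (CommRingCat.of k))] [Nonempty X] (hT : topologicalKrullDim T = 1)
    {r : ℕ} (hr : 0 < r) {E E' : (pullback (X ↘ Spec (CommRingCat.of k)) (T ↘ Spec (CommRingCat.of k))).Modules}
    (hE : FlatMod.IsFinLocFreeOfRank r E) (hE' : FlatMod.IsFinLocFreeOfRank r E')
    {t₀ : Spec (CommRingCat.of k) ⟶ T} (ht₀ : t₀ ≫ (T ↘ Spec (CommRingCat.of k)) = 𝟙 _)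
    (hiso : ∀ (t : Spec (CommRingCat.of k) ⟶ T) (j : X ⟶ pullback (X ↘ Spec (CommRingCat.of k)) (T ↘ Spec (CommRingCat.of k))),
      t ≫ (T ↘ Spec (CommRingCat.of k)) = 𝟙 _ → t ≠ t₀ → j ≫ pullback.fst _ _ = 𝟙 X →
      j ≫ pullback.snd _ _ = (X ↘ Spec (CommRingCat.of k)) ≫ t →
      Nonempty ((Scheme.Modules.pullback j).obj E ≅ (Scheme.Modules.pullback j).obj E'))
    {j₀ : X ⟶ pullback (X ↘ Spec (CommRingCat.of k)) (T ↘ Spec (CommRingCat.of k))}
    (hj₀ : j₀ ≫ pullback.fst _ _ = 𝟙 X) (hj₀' : j₀ ≫ pullback.snd _ _ = (X ↘ Spec (CommRingCat.of k)) ≫ t₀) :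
    (∃ u : (Scheme.Modules.pullback j₀).obj E ⟶ (Scheme.Modules.pullback j₀).obj E', u ≠ 0) ∧
      Curv2.euler k X ((Scheme.Modules.pullback j₀).obj E) =
        Curv2.euler k X ((Scheme.Modules.pullback j₀).obj E') := by
  let x := X ↘ Spec (CommRingCat.of k)
  let p := pullback.snd (X ↘ Spec (CommRingCat.of k)) (T ↘ Spec (CommRingCat.of k))
  haveI : IsLocallyNoetherian T := LocallyOfFiniteType.isLocallyNoetherian (T ↘ Spec (CommRingCat.of k))
  haveI : IsProper p := inferInstanceAs (IsProper (pullback.snd _ _))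
  haveI : Flat p := inferInstanceAs (Flat (pullback.snd _ _))
  haveI : IsLocallyNoetherian (pullback (X ↘ Spec (CommRingCat.of k)) (T ↘ Spec (CommRingCat.of k))) :=
    LocallyOfFiniteType.isLocallyNoetherian p
  haveI : JacobsonSpace T := LocallyOfFiniteType.jacobsonSpace (T ↘ Spec (CommRingCat.of k))
  have hEl := KVb.isFinLocFree_of_rank hE
  have hEl' := KVb.isFinLocFree_of_rank hE'
  have hEc := DCohLib.isCoh_of_isFinLocFree hEl
  have hEc' := DCohLib.isCoh_of_isFinLocFree hEl'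
  have hEf : FlatMod.IsFlatOver p E := DCohMore.TwistFam.isFlatOver_of_isFinLocFree p hEl
  have hEf' : FlatMod.IsFlatOver p E' := DCohMore.TwistFam.isFlatOver_of_isFinLocFree p hEl'
  let H := (hF E).obj E'
  have hHc : Coh.IsCoh H := HomFibreLib.isCoh_hF_flf hEl hEl'
  have hHf : FlatMod.IsFlatOver p H := HomFibreLib.isFlatOver_hF p hEl hEl'
  haveI := hEc.1; haveI := hEc'.1; haveI := hHc.1
  have key : ∀ {t : Spec (CommRingCat.of k) ⟶ T}
      {j : X ⟶ pullback (X ↘ Spec (CommRingCat.of k)) (T ↘ Spec (CommRingCat.of k))},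
      IsPullback j x p t → ((∃ u : (Scheme.Modules.pullback j).obj E ⟶ (Scheme.Modules.pullback j).obj E', u ≠ 0) ↔
        1 ≤ CohIII.fiberRank p H 0 (t (IsLocalRing.closedPoint k))) := by
    intro t j h
    haveI := HomFibreLib.isIso_cmpHom j E E' hEl hEl'
    rw [exists_hom_ne_zero_iff (k := k) (PullbackMod.isFinLocFree_pullback j E hEl)
      (PullbackMod.isFinLocFree_pullback j E' hEl'), ← finrank_HH_point h H 0,
      (BCLib.hhEquivL (A := k) (asIso (HomFibreLib.cmpHom j E E')) 0).finrank_eq]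
  let τ₀ : T := t₀ (IsLocalRing.closedPoint k)
  have hc₀ : IsClosed ({τ₀} : Set T) := by
    exact (pointEquivClosedPoint (T ↘ Spec (CommRingCat.of k)) ⟨t₀, ht₀⟩).2
  have hne : ({τ₀} : Set T)ᶜ.Nonempty := by
    by_contra hh
    rw [Set.not_nonempty_iff_eq_empty, Set.compl_empty_iff] at hh
    haveI : Subsingleton T := Set.subsingleton_univ_iff.1 (hh ▸ Set.subsingleton_singleton)
    haveI : DiscreteTopology T := Subsingleton.discreteTopology
    have h0 := topologicalKrullDim_zero_of_discreteTopology T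
    rw [hT] at h0
    exact absurd h0 (by norm_num)
  have hgood : ∀ s : T, IsClosed ({s} : Set T) → s ≠ τ₀ → ∃ (t : Spec (CommRingCat.of k) ⟶ T)
      (j : X ⟶ pullback (X ↘ Spec (CommRingCat.of k)) (T ↘ Spec (CommRingCat.of k))),
      IsPullback j x p t ∧ t (IsLocalRing.closedPoint k) = s ∧
        Nonempty ((Scheme.Modules.pullback j).obj E ≅ (Scheme.Modules.pullback j).obj E') := by
    intro s hs hne'
    obtain ⟨⟨t, ht⟩, hts⟩ := (pointEquivClosedPoint (T ↘ Spec (CommRingCat.of k))).surjective ⟨s, hs⟩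
    have hts' : t (IsLocalRing.closedPoint k) = s := congrArg Subtype.val hts
    have hj1 : pullback.lift (f := x) (g := T ↘ Spec (CommRingCat.of k)) (𝟙 X) (x ≫ t)
        (by rw [Category.assoc, ht, Category.id_comp, Category.comp_id]) ≫ pullback.fst _ _ = 𝟙 X :=
      pullback.lift_fst _ _ _
    have hj2 := pullback.lift_snd (f := x) (g := T ↘ Spec (CommRingCat.of k)) (𝟙 X) (x ≫ t)
        (by rw [Category.assoc, ht, Category.id_comp, Category.comp_id])
    exact ⟨t, _, isPullback_point ht hj1 hj2, hts',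
      hiso t _ ht (fun h => hne' (by rw [← hts', h])) hj1 hj2⟩
  have hcl : IsClosed {s : T | 1 ≤ CohIII.fiberRank p H 0 s} := by
    rw [← isOpen_compl_iff]
    convert GenBCLib.isOpen_fiberRank_lt (QCohLib.isFP_of_isCoh _ hHc) hHf 0 1 using 1
    ext s
    simp [not_le]
  have hall : ∀ s : T, 1 ≤ CohIII.fiberRank p H 0 s := by
    by_contra hcon
    push Not at hcon
    obtain ⟨s, hs⟩ := hcon
    let U : Set T := {s : T | 1 ≤ CohIII.fiberRank p H 0 s}ᶜ ∩ {τ₀}ᶜ
    have hU : U.Nonempty := nonempty_preirreducible_inter hcl.isOpen_compl hc₀.isOpen_compl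
      ⟨s, by simpa using hs⟩ hne
    obtain ⟨s', hs', hsc⟩ := nonempty_inter_closedPoints hU
      (hcl.isOpen_compl.inter hc₀.isOpen_compl).isLocallyClosed
    obtain ⟨t, j, h, hts, ⟨e⟩⟩ := hgood s' hsc hs'.2
    refine hs'.1 ?_
    rw [← hts]
    refine (key h).1 ⟨e.hom, fun h0 => ?_⟩
    have hz : IsZero ((Scheme.Modules.pullback j).obj E') := by
      rw [IsZero.iff_id_eq_zero, ← e.inv_hom_id, h0, Limits.comp_zero]
    exact not_isZero_of_rank hr (PBundleLib.isFinLocFreeOfRank_pullback j hE') hz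
  have h₀ := isPullback_point ht₀ hj₀ hj₀'
  refine ⟨(key h₀).2 (hall _), ?_⟩
  obtain ⟨s', hs', hsc⟩ := nonempty_inter_closedPoints hne hc₀.isOpen_compl.isLocallyClosed
  obtain ⟨t, j, h, hts, ⟨e⟩⟩ := hgood s' hsc hs'
  have hc := GenBCLib.isLocallyConstant_euler (QCohLib.isFP_of_isCoh _ hEc) hEf
  have hc' := GenBCLib.isLocallyConstant_euler (QCohLib.isFP_of_isCoh _ hEc') hEf'
  rw [euler_point h₀ E, euler_point h₀ E']
  refine (hc.apply_eq_of_preconnectedSpace τ₀ s').trans (Eq.trans ?_ (hc'.apply_eq_of_preconnectedSpace s' τ₀))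
  show PerfAux.eulerChar p E s' = PerfAux.eulerChar p E' s'
  rw [← hts, ← euler_point h E, ← euler_point h E', CurveLib.euler_iso (K := k) e]

end Groth.Agent.SepFamLib
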